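set_option autoImplicit false
namespace Cfsg.Agent.Lib.Helper6.TCD.Fi22U2
noncomputable def WI (i : Nat) : Nat := Nat.land (Nat.shiftRight 0x420720e39061c828e410720639021c808e400701038071c030e014700838031c010e004700038011b000d8046800340119000c8046000300117000b80458002c0115000a8045000280113000980448002401110008804400020010f000780438001c010d0006804300018010b0005804280014010900048042000100107000380018000a000400018000800020000 (Nat.mul 17 (Nat.land i 255))) 131071
end Cfsg.Agent.Lib.Helper6.TCD.Fi22U2
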