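import Cfsg.Agent.Lib.Helper6.TCD.Fi22U2.CS0
import Cfsg.Agent.Lib.Helper6.TCD.Fi22U2.CS1
import Cfsg.Agent.Lib.Helper6.TCD.Fi22U2.CN0
import Cfsg.Agent.Lib.Helper6.TCD.Fi22U2.CC
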